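import Cfsg.Agent.Lib.H9.HN.NP.Net
set_option autoImplicit false
set_option maxRecDepth 100000
set_option linter.all false
set_option Elab.async false
namespace H9.HN.NP
open H35.TC H35.Net
open H9.HN.TCPA (Lt inv mm extra subs)
theorem pres_chk : chkPres net [.x, .xi, .y, .yi, .z] 1408 = true := by decide +kernel
theorem letters_all : ∀ x : Lt, x ∈ [Lt.x, Lt.xi, Lt.y, Lt.yi, Lt.z] := by
  intro x; cases x <;> decide
theorem pres : ∀ x b, π x b < 1408 ↔ b < 1408 := fun x => pres_of_chk hbp pres_chk x (letters_all x)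
theorem fix_chk : chkFixHi net [.x, .xi, .y, .yi, .z] 11 1408 = true := by decide +kernel
theorem fix_hi : ∀ x b, 1408 ≤ b → π x b = b := fun x => fix_of_chk hbp fix_chk x (letters_all x)
theorem trans_chk : chkTrans net [[.x], [.y], [.z]] 8 1408 0 = true := by decide +kernel
theorem trans {Γ : Subgroup (Equiv.Perm ℕ)} (hΓ : ∀ x, π x ∈ Γ) : ∀ c, c < 1408 → ∃ g ∈ Γ, g 0 = c := trans_of_chk hbp hΓ trans_chk
/-- words of level 0 -/
def ws_0 : List (List Lt) := [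
   [.x],
   [.y],
   [.z]]
theorem nb_0 : chkTrans net ws_0 8 1408 0 = true := by decide +kernel
/-- words of level 1 -/
def ws_1 : List (List Lt) := [
   [.y],
   [.xi, .y, .x]]
theorem fx_1 : chkFixF net ws_1 [0] = true := by decide +kernel
theorem nb_1 : chkOrb net 11 ws_1 9 196 504 = true := by decide +kernel
/-- words of level 2 -/
def ws_2 : List (List Lt) := [
   [.yi, .yi, .yi, .xi, .yi, .x, .y, .y, .xi, .y, .x, .y, .y, .y, .y, .xi, .y, .x, .y],
   [.xi, .yi, .x, .yi, .xi, .yi, .x, .y, .xi, .y, .x, .y, .xi, .y, .x, .y, .y, .y, .y, .xi, .y, .x],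
   [.yi, .xi, .yi, .yi, .x, .yi, .xi, .y, .x, .y, .y, .xi, .y, .x, .y, .xi, .y, .x, .y, .xi, .y, .x]]
theorem fx_2 : chkFixF net ws_2 [196, 0] = true := by decide +kernel
theorem nb_2 : chkOrb net 11 ws_2 4 16 125 = true := by decide +kernel
/-- words of level 3 -/
def ws_3 : List (List Lt) := [
   [.yi, .xi, .yi, .x, .yi, .yi, .yi, .yi, .xi, .yi, .x, .yi, .yi, .xi, .y, .x, .y, .y, .y, .xi, .yi, .x, .yi, .xi, .yi, .x, .y, .xi, .y, .x, .y, .xi, .y, .x, .y, .y, .y, .y, .xi, .y, .x, .yi, .xi, .yi, .yi, .x, .yi, .xi, .y, .x, .y, .y, .xi, .y, .x, .y, .y, .xi, .y, .x, .y, .xi, .y, .x, .y, .y, .y, .y, .xi, .y, .x]]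
theorem fx_3 : chkFixF net ws_3 [16, 196, 0] = true := by decide +kernel
theorem nb_3 : chkOrb net 11 ws_3 1 7 2 = true := by decide +kernel
theorem order_ge {Γ : Subgroup (Equiv.Perm ℕ)} [Finite Γ] (hΓ : ∀ x, π x ∈ Γ) : 177408000 ≤ Nat.card Γ := by
  have h4 : 1 ≤ Nat.card (stabs Γ [7, 16, 196, 0]) := chain_end _
  have h3 : 2 * (1) ≤ Nat.card (stabs Γ [16, 196, 0]) := chain_stepF hbp hΓ fx_3 nb_3 h4
  have h2 : 125 * (2 * (1)) ≤ Nat.card (stabs Γ [196, 0]) := chain_stepF hbp hΓ fx_2 nb_2 h3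
  have h1 : 504 * (125 * (2 * (1))) ≤ Nat.card (stabs Γ [0]) := chain_stepF hbp hΓ fx_1 nb_1 h2
  have h0 : 1408 * (504 * (125 * (2 * (1)))) ≤ Nat.card Γ := chain_stepT hbp hΓ nb_0 h1
  calc 177408000 = 1408 * (504 * (125 * (2 * (1)))) := by norm_num
    _ ≤ _ := h0
end H9.HN.NP
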