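import Cfsg.Agent.Lib.H9.HN.NP.Net
set_option autoImplicit false
set_option maxRecDepth 100000
set_option linter.all false
set_option Elab.async false
namespace H9.HN.NP
open H35.TC H35.Net
open H9.HN.TCPA (Lt inv mm extra subs)
/-- checked pairs -/
def prs : List (Lt × Lt) := [(.z, .z)]
theorem pr_z_z : chkW net 11 [.z, .z] 1 0 11 = true := by decide +kernel
theorem all_prs : ∀ x y, mm x y = 0 ∨ (x, y) ∈ prs ∨ (y, x) ∈ prs := by
  intro x y
  cases x <;> cases y <;> decide
theorem mm_symm : ∀ x y, mm x y = mm y x := by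
  intro x y
  cases x <;> cases y <;> rfl
theorem prs_ok : ∀ p ∈ prs, chkW net 11 [p.1, p.2] (mm p.1 p.2) 0 11 = true := by
  intro p hp
  simp only [prs, List.mem_cons, List.mem_nil_iff, or_false] at hp
  rcases hp with rfl
  · exact pr_z_z
theorem hp : ∀ x y, (π x * π y) ^ mm x y = 1 := cox_of_pairs hbp all_prs mm_symm prs_ok
theorem ex_0_0 : chkW net 11 [.z, .x] 2 0 11 = true := by decide +kernel
theorem ex_0 : ((([.z, .x] : List Lt).map π).prod) ^ 2 = 1 := by
  refine pow_eq_one hbp (k := 11) fun r hr => ?_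
  exact chkW_spec ex_0_0 r (by omega) (by omega)
theorem ex_1_0 : chkW net 11 [.y] 6 0 11 = true := by decide +kernel
theorem ex_1 : ((([.y] : List Lt).map π).prod) ^ 6 = 1 := by
  refine pow_eq_one hbp (k := 11) fun r hr => ?_
  exact chkW_spec ex_1_0 r (by omega) (by omega)
theorem ex_2_0 : chkW net 11 [.x, .x, .y, .x, .x, .yi] 1 0 11 = true := by decide +kernel
theorem ex_2 : ((([.x, .x, .y, .x, .x, .yi] : List Lt).map π).prod) ^ 1 = 1 := by
  refine pow_eq_one hbp (k := 11) fun r hr => ?_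
  exact chkW_spec ex_2_0 r (by omega) (by omega)
theorem ex_3_0 : chkW net 11 [.xi, .yi, .x, .y] 3 0 11 = true := by decide +kernel
theorem ex_3 : ((([.xi, .yi, .x, .y] : List Lt).map π).prod) ^ 3 = 1 := by
  refine pow_eq_one hbp (k := 11) fun r hr => ?_
  exact chkW_spec ex_3_0 r (by omega) (by omega)
theorem ex_4_0 : chkW net 11 [.x, .y] 8 0 11 = true := by decide +kernel
theorem ex_4 : ((([.x, .y] : List Lt).map π).prod) ^ 8 = 1 := by
  refine pow_eq_one hbp (k := 11) fun r hr => ?_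
  exact chkW_spec ex_4_0 r (by omega) (by omega)
theorem ex_5_0 : chkW net 11 [.z, .y, .xi, .yi, .yi, .xi, .yi, .xi, .yi, .z, .y, .x, .y, .x, .y, .y, .x, .yi, .xi, .xi] 1 0 11 = true := by decide +kernel
theorem ex_5 : ((([.z, .y, .xi, .yi, .yi, .xi, .yi, .xi, .yi, .z, .y, .x, .y, .x, .y, .y, .x, .yi, .xi, .xi] : List Lt).map π).prod) ^ 1 = 1 := by
  refine pow_eq_one hbp (k := 11) fun r hr => ?_
  exact chkW_spec ex_5_0 r (by omega) (by omega)
theorem ex_6_0 : chkW net 11 [.xi, .y, .y, .x, .y, .y, .y] 3 0 11 = true := by decide +kernel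
theorem ex_6 : ((([.xi, .y, .y, .x, .y, .y, .y] : List Lt).map π).prod) ^ 3 = 1 := by
  refine pow_eq_one hbp (k := 11) fun r hr => ?_
  exact chkW_spec ex_6_0 r (by omega) (by omega)
theorem ex_7_0 : chkW net 11 [.x, .y, .x, .y, .y, .y] 4 0 11 = true := by decide +kernel
theorem ex_7 : ((([.x, .y, .x, .y, .y, .y] : List Lt).map π).prod) ^ 4 = 1 := by
  refine pow_eq_one hbp (k := 11) fun r hr => ?_
  exact chkW_spec ex_7_0 r (by omega) (by omega)
theorem ex_8_0 : chkW net 11 [.z, .yi, .xi, .yi, .xi, .yi, .yi, .yi, .z, .y, .y, .y, .x, .y, .x, .y, .x, .yi, .xi, .yi, .xi, .yi, .yi, .yi, .z, .y, .y, .y, .x, .y, .x, .y, .x, .yi, .xi, .yi, .xi, .yi, .yi, .yi, .z, .y, .y, .y, .x, .y, .x, .y, .x] 1 0 11 = true := by decide +kernel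
theorem ex_8 : ((([.z, .yi, .xi, .yi, .xi, .yi, .yi, .yi, .z, .y, .y, .y, .x, .y, .x, .y, .x, .yi, .xi, .yi, .xi, .yi, .yi, .yi, .z, .y, .y, .y, .x, .y, .x, .y, .x, .yi, .xi, .yi, .xi, .yi, .yi, .yi, .z, .y, .y, .y, .x, .y, .x, .y, .x] : List Lt).map π).prod) ^ 1 = 1 := by
  refine pow_eq_one hbp (k := 11) fun r hr => ?_
  exact chkW_spec ex_8_0 r (by omega) (by omega)
theorem ex_9_0 : chkW net 11 [.x, .xi] 1 0 11 = true := by decide +kernel
theorem ex_9 : ((([.x, .xi] : List Lt).map π).prod) ^ 1 = 1 := by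
  refine pow_eq_one hbp (k := 11) fun r hr => ?_
  exact chkW_spec ex_9_0 r (by omega) (by omega)
theorem ex_10_0 : chkW net 11 [.xi, .x] 1 0 11 = true := by decide +kernel
theorem ex_10 : ((([.xi, .x] : List Lt).map π).prod) ^ 1 = 1 := by
  refine pow_eq_one hbp (k := 11) fun r hr => ?_
  exact chkW_spec ex_10_0 r (by omega) (by omega)
theorem ex_11_0 : chkW net 11 [.y, .yi] 1 0 11 = true := by decide +kernel
theorem ex_11 : ((([.y, .yi] : List Lt).map π).prod) ^ 1 = 1 := by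
  refine pow_eq_one hbp (k := 11) fun r hr => ?_
  exact chkW_spec ex_11_0 r (by omega) (by omega)
theorem ex_12_0 : chkW net 11 [.yi, .y] 1 0 11 = true := by decide +kernel
theorem ex_12 : ((([.yi, .y] : List Lt).map π).prod) ^ 1 = 1 := by
  refine pow_eq_one hbp (k := 11) fun r hr => ?_
  exact chkW_spec ex_12_0 r (by omega) (by omega)
theorem he : ∀ p ∈ extra, ((p.1.map π).prod) ^ p.2 = 1 := by
  intro p hp
  simp only [extra, List.mem_cons, List.mem_nil_iff, or_false] at hp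
  rcases hp with rfl | rfl | rfl | rfl | rfl | rfl | rfl | rfl | rfl | rfl | rfl | rfl | rfl
  · exact ex_0
  · exact ex_1
  · exact ex_2
  · exact ex_3
  · exact ex_4
  · exact ex_5
  · exact ex_6
  · exact ex_7
  · exact ex_8
  · exact ex_9
  · exact ex_10
  · exact ex_11
  · exact ex_12
end H9.HN.NP
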