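import Cfsg.Agent.Lib.H9.HN.NP.Net
set_option autoImplicit false
set_option maxRecDepth 100000
set_option linter.all false
set_option Elab.async false
namespace H9.HN.NP
open H35.TC H35.Net
open H9.HN.TCPA (Lt inv mm extra subs)
theorem sw_0_0 : chkW net 11 [.y, .xi, .yi, .yi, .xi, .y, .xi, .y, .xi, .x, .yi, .xi, .y, .x, .yi, .x, .yi, .x, .y, .y, .x, .yi, .yi, .x, .y, .xi] 1 0 11 = true := by decide +kernel
theorem sw_0 : ((([.y, .xi, .yi, .yi, .xi, .y, .xi, .y, .xi, .x, .yi, .xi, .y, .x, .yi, .x, .yi, .x, .y, .y, .x, .yi, .yi, .x, .y, .xi] : List Lt).map π).prod) ^ 1 = 1 := by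
  refine pow_eq_one hbp (k := 11) fun r hr => ?_
  exact chkW_spec sw_0_0 r (by omega) (by omega)
theorem sw_1_0 : chkW net 11 [.x, .yi, .x, .yi, .x, .y, .y, .x, .yi] 3 0 11 = true := by decide +kernel
theorem sw_1 : ((([.x, .yi, .x, .yi, .x, .y, .y, .x, .yi] : List Lt).map π).prod) ^ 3 = 1 := by
  refine pow_eq_one hbp (k := 11) fun r hr => ?_
  exact chkW_spec sw_1_0 r (by omega) (by omega)
theorem sw_2_0 : chkW net 11 [.z, .yi, .yi, .xi, .yi, .xi, .y, .z, .z, .yi, .yi, .xi, .yi, .xi, .y, .z, .x, .yi, .x, .yi, .x, .y, .y, .x, .yi, .z, .yi, .x, .y, .x, .y, .y, .z, .z, .yi, .x, .y, .x, .y, .y, .z, .x, .yi, .x, .yi, .x, .y, .y, .x, .yi] 1 0 11 = true := by decide +kernel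
theorem sw_2 : ((([.z, .yi, .yi, .xi, .yi, .xi, .y, .z, .z, .yi, .yi, .xi, .yi, .xi, .y, .z, .x, .yi, .x, .yi, .x, .y, .y, .x, .yi, .z, .yi, .x, .y, .x, .y, .y, .z, .z, .yi, .x, .y, .x, .y, .y, .z, .x, .yi, .x, .yi, .x, .y, .y, .x, .yi] : List Lt).map π).prod) ^ 1 = 1 := by
  refine pow_eq_one hbp (k := 11) fun r hr => ?_
  exact chkW_spec sw_2_0 r (by omega) (by omega)
theorem sw_3_0 : chkW net 11 [.z, .yi, .yi, .xi, .yi, .xi, .y, .z, .z, .yi, .yi, .xi, .yi, .xi, .y, .z, .yi, .x, .y, .xi, .z, .yi, .x, .y, .x, .y, .y, .z, .z, .yi, .x, .y, .x, .y, .y, .z, .x, .yi, .xi, .y] 1 0 11 = true := by decide +kernel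
theorem sw_3 : ((([.z, .yi, .yi, .xi, .yi, .xi, .y, .z, .z, .yi, .yi, .xi, .yi, .xi, .y, .z, .yi, .x, .y, .xi, .z, .yi, .x, .y, .x, .y, .y, .z, .z, .yi, .x, .y, .x, .y, .y, .z, .x, .yi, .xi, .y] : List Lt).map π).prod) ^ 1 = 1 := by
  refine pow_eq_one hbp (k := 11) fun r hr => ?_
  exact chkW_spec sw_3_0 r (by omega) (by omega)
theorem sw_4_0 : chkW net 11 [.y] 6 0 11 = true := by decide +kernel
theorem sw_4 : ((([.y] : List Lt).map π).prod) ^ 6 = 1 := by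
  refine pow_eq_one hbp (k := 11) fun r hr => ?_
  exact chkW_spec sw_4_0 r (by omega) (by omega)
theorem sw_5_0 : chkW net 11 [.yi, .z, .x, .y, .z, .x] 2 0 11 = true := by decide +kernel
theorem sw_5 : ((([.yi, .z, .x, .y, .z, .x] : List Lt).map π).prod) ^ 2 = 1 := by
  refine pow_eq_one hbp (k := 11) fun r hr => ?_
  exact chkW_spec sw_5_0 r (by omega) (by omega)
theorem sw_6_0 : chkW net 11 [.z, .x, .z] 4 0 11 = true := by decide +kernel
theorem sw_6 : ((([.z, .x, .z] : List Lt).map π).prod) ^ 4 = 1 := by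
  refine pow_eq_one hbp (k := 11) fun r hr => ?_
  exact chkW_spec sw_6_0 r (by omega) (by omega)
theorem sw_7_0 : chkW net 11 [.yi, .z, .x, .z, .z, .x, .z, .y, .z, .x, .z, .z, .x, .z] 1 0 11 = true := by decide +kernel
theorem sw_7 : ((([.yi, .z, .x, .z, .z, .x, .z, .y, .z, .x, .z, .z, .x, .z] : List Lt).map π).prod) ^ 1 = 1 := by
  refine pow_eq_one hbp (k := 11) fun r hr => ?_
  exact chkW_spec sw_7_0 r (by omega) (by omega)
theorem sw_8_0 : chkW net 11 [.yi, .yi, .z, .x, .y, .y, .z, .x] 2 0 11 = true := by decide +kernel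
theorem sw_8 : ((([.yi, .yi, .z, .x, .y, .y, .z, .x] : List Lt).map π).prod) ^ 2 = 1 := by
  refine pow_eq_one hbp (k := 11) fun r hr => ?_
  exact chkW_spec sw_8_0 r (by omega) (by omega)
theorem sw_9_0 : chkW net 11 [.yi, .z, .x] 6 0 11 = true := by decide +kernel
theorem sw_9 : ((([.yi, .z, .x] : List Lt).map π).prod) ^ 6 = 1 := by
  refine pow_eq_one hbp (k := 11) fun r hr => ?_
  exact chkW_spec sw_9_0 r (by omega) (by omega)
theorem sw_10_0 : chkW net 11 [.yi, .z, .x, .y, .z, .yi, .z, .y, .z, .x, .yi, .z, .y, .z] 1 0 11 = true := by decide +kernel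
theorem sw_10 : ((([.yi, .z, .x, .y, .z, .yi, .z, .y, .z, .x, .yi, .z, .y, .z] : List Lt).map π).prod) ^ 1 = 1 := by
  refine pow_eq_one hbp (k := 11) fun r hr => ?_
  exact chkW_spec sw_10_0 r (by omega) (by omega)
theorem sw_11_0 : chkW net 11 [.yi, .z, .x, .y, .z, .z, .x, .z] 2 0 11 = true := by decide +kernel
theorem sw_11 : ((([.yi, .z, .x, .y, .z, .z, .x, .z] : List Lt).map π).prod) ^ 2 = 1 := by
  refine pow_eq_one hbp (k := 11) fun r hr => ?_
  exact chkW_spec sw_11_0 r (by omega) (by omega)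
theorem sw_12_0 : chkW net 11 [.yi, .z, .z, .x, .z, .y, .z, .x] 2 0 11 = true := by decide +kernel
theorem sw_12 : ((([.yi, .z, .z, .x, .z, .y, .z, .x] : List Lt).map π).prod) ^ 2 = 1 := by
  refine pow_eq_one hbp (k := 11) fun r hr => ?_
  exact chkW_spec sw_12_0 r (by omega) (by omega)
theorem sw_13_0 : chkW net 11 [.yi, .z, .y, .z] 3 0 11 = true := by decide +kernel
theorem sw_13 : ((([.yi, .z, .y, .z] : List Lt).map π).prod) ^ 3 = 1 := by
  refine pow_eq_one hbp (k := 11) fun r hr => ?_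
  exact chkW_spec sw_13_0 r (by omega) (by omega)
theorem sw_14_0 : chkW net 11 [.yi, .yi, .yi, .z, .x, .yi, .yi, .yi, .z, .x, .yi, .yi, .yi, .z, .x, .y, .y, .y, .z, .x] 1 0 11 = true := by decide +kernel
theorem sw_14 : ((([.yi, .yi, .yi, .z, .x, .yi, .yi, .yi, .z, .x, .yi, .yi, .yi, .z, .x, .y, .y, .y, .z, .x] : List Lt).map π).prod) ^ 1 = 1 := by
  refine pow_eq_one hbp (k := 11) fun r hr => ?_
  exact chkW_spec sw_14_0 r (by omega) (by omega)
theorem sw_15_0 : chkW net 11 [.yi, .yi, .yi, .z, .x, .yi, .yi, .z, .x, .y, .z, .x, .y, .y, .z, .x, .y, .z, .x, .y, .z, .x] 1 0 11 = true := by decide +kernel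
theorem sw_15 : ((([.yi, .yi, .yi, .z, .x, .yi, .yi, .z, .x, .y, .z, .x, .y, .y, .z, .x, .y, .z, .x, .y, .z, .x] : List Lt).map π).prod) ^ 1 = 1 := by
  refine pow_eq_one hbp (k := 11) fun r hr => ?_
  exact chkW_spec sw_15_0 r (by omega) (by omega)
theorem sw_16_0 : chkW net 11 [.yi, .yi, .yi, .z, .x, .y, .z, .x, .y, .z, .x, .y, .y, .z, .x, .y, .z, .x, .yi, .yi, .z, .x] 1 0 11 = true := by decide +kernel
theorem sw_16 : ((([.yi, .yi, .yi, .z, .x, .y, .z, .x, .y, .z, .x, .y, .y, .z, .x, .y, .z, .x, .yi, .yi, .z, .x] : List Lt).map π).prod) ^ 1 = 1 := by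
  refine pow_eq_one hbp (k := 11) fun r hr => ?_
  exact chkW_spec sw_16_0 r (by omega) (by omega)
theorem sw_17_0 : chkW net 11 [.yi, .yi, .z, .x, .y, .y, .z, .z, .x, .z] 2 0 11 = true := by decide +kernel
theorem sw_17 : ((([.yi, .yi, .z, .x, .y, .y, .z, .z, .x, .z] : List Lt).map π).prod) ^ 2 = 1 := by
  refine pow_eq_one hbp (k := 11) fun r hr => ?_
  exact chkW_spec sw_17_0 r (by omega) (by omega)
theorem sw_18_0 : chkW net 11 [.yi, .yi, .z, .z, .x, .z, .y, .y, .z, .x] 2 0 11 = true := by decide +kernel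
theorem sw_18 : ((([.yi, .yi, .z, .z, .x, .z, .y, .y, .z, .x] : List Lt).map π).prod) ^ 2 = 1 := by
  refine pow_eq_one hbp (k := 11) fun r hr => ?_
  exact chkW_spec sw_18_0 r (by omega) (by omega)
theorem sw_19_0 : chkW net 11 [.yi, .z, .x, .yi, .z, .x, .yi, .z, .z, .x, .z] 2 0 11 = true := by decide +kernel
theorem sw_19 : ((([.yi, .z, .x, .yi, .z, .x, .yi, .z, .z, .x, .z] : List Lt).map π).prod) ^ 2 = 1 := by
  refine pow_eq_one hbp (k := 11) fun r hr => ?_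
  exact chkW_spec sw_19_0 r (by omega) (by omega)
theorem sw_20_0 : chkW net 11 [.yi, .z, .x, .y, .z, .x, .z, .yi, .z, .z, .x, .y, .z, .x, .yi, .z, .z, .x, .y, .z, .x, .z] 1 0 11 = true := by decide +kernel
theorem sw_20 : ((([.yi, .z, .x, .y, .z, .x, .z, .yi, .z, .z, .x, .y, .z, .x, .yi, .z, .z, .x, .y, .z, .x, .z] : List Lt).map π).prod) ^ 1 = 1 := by
  refine pow_eq_one hbp (k := 11) fun r hr => ?_
  exact chkW_spec sw_20_0 r (by omega) (by omega)
theorem sw_21_0 : chkW net 11 [.yi, .z, .x, .y, .z, .y, .z, .yi, .z] 2 0 11 = true := by decide +kernel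
theorem sw_21 : ((([.yi, .z, .x, .y, .z, .y, .z, .yi, .z] : List Lt).map π).prod) ^ 2 = 1 := by
  refine pow_eq_one hbp (k := 11) fun r hr => ?_
  exact chkW_spec sw_21_0 r (by omega) (by omega)
theorem sw_22_0 : chkW net 11 [.yi, .z, .x, .z, .y, .z, .x, .z, .yi, .z, .y, .z, .z, .x, .yi, .z, .z, .x, .y, .z] 1 0 11 = true := by decide +kernel
theorem sw_22 : ((([.yi, .z, .x, .z, .y, .z, .x, .z, .yi, .z, .y, .z, .z, .x, .yi, .z, .z, .x, .y, .z] : List Lt).map π).prod) ^ 1 = 1 := by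
  refine pow_eq_one hbp (k := 11) fun r hr => ?_
  exact chkW_spec sw_22_0 r (by omega) (by omega)
theorem sw_23_0 : chkW net 11 [.yi, .z, .x, .z, .y, .z, .yi, .z, .x, .z, .y, .z, .z, .x, .yi, .z, .y, .z, .z, .x] 1 0 11 = true := by decide +kernel
theorem sw_23 : ((([.yi, .z, .x, .z, .y, .z, .yi, .z, .x, .z, .y, .z, .z, .x, .yi, .z, .y, .z, .z, .x] : List Lt).map π).prod) ^ 1 = 1 := by
  refine pow_eq_one hbp (k := 11) fun r hr => ?_
  exact chkW_spec sw_23_0 r (by omega) (by omega)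
theorem sw_24_0 : chkW net 11 [.yi, .z, .x, .z, .y, .z, .yi, .z, .z, .x, .y, .z, .z, .x, .yi, .z, .y, .z, .x, .z] 1 0 11 = true := by decide +kernel
theorem sw_24 : ((([.yi, .z, .x, .z, .y, .z, .yi, .z, .z, .x, .y, .z, .z, .x, .yi, .z, .y, .z, .x, .z] : List Lt).map π).prod) ^ 1 = 1 := by
  refine pow_eq_one hbp (k := 11) fun r hr => ?_
  exact chkW_spec sw_24_0 r (by omega) (by omega)
theorem sw_25_0 : chkW net 11 [.yi, .z, .yi, .z, .y, .z, .y, .z, .x] 2 0 11 = true := by decide +kernel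
theorem sw_25 : ((([.yi, .z, .yi, .z, .y, .z, .y, .z, .x] : List Lt).map π).prod) ^ 2 = 1 := by
  refine pow_eq_one hbp (k := 11) fun r hr => ?_
  exact chkW_spec sw_25_0 r (by omega) (by omega)
theorem sw_26_0 : chkW net 11 [.yi, .yi, .z, .x, .yi, .yi, .z, .y, .z, .yi, .z, .yi, .z, .x, .yi, .z, .yi, .z, .y, .z] 1 0 11 = true := by decide +kernel
theorem sw_26 : ((([.yi, .yi, .z, .x, .yi, .yi, .z, .y, .z, .yi, .z, .yi, .z, .x, .yi, .z, .yi, .z, .y, .z] : List Lt).map π).prod) ^ 1 = 1 := by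
  refine pow_eq_one hbp (k := 11) fun r hr => ?_
  exact chkW_spec sw_26_0 r (by omega) (by omega)
theorem sw_27_0 : chkW net 11 [.yi, .yi, .z, .x, .z, .yi, .z, .y, .z, .x, .z, .y, .y, .z, .x, .z, .y, .z, .yi, .z, .x, .z] 1 0 11 = true := by decide +kernel
theorem sw_27 : ((([.yi, .yi, .z, .x, .z, .yi, .z, .y, .z, .x, .z, .y, .y, .z, .x, .z, .y, .z, .yi, .z, .x, .z] : List Lt).map π).prod) ^ 1 = 1 := by
  refine pow_eq_one hbp (k := 11) fun r hr => ?_
  exact chkW_spec sw_27_0 r (by omega) (by omega)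
theorem sw_28_0 : chkW net 11 [.yi, .yi, .z, .x, .z, .yi, .z, .y, .z, .z, .x, .y, .y, .z, .x, .z, .y, .z, .yi, .z, .z, .x] 1 0 11 = true := by decide +kernel
theorem sw_28 : ((([.yi, .yi, .z, .x, .z, .yi, .z, .y, .z, .z, .x, .y, .y, .z, .x, .z, .y, .z, .yi, .z, .z, .x] : List Lt).map π).prod) ^ 1 = 1 := by
  refine pow_eq_one hbp (k := 11) fun r hr => ?_
  exact chkW_spec sw_28_0 r (by omega) (by omega)
theorem sw_29_0 : chkW net 11 [.yi, .yi, .z, .z, .x, .yi, .z, .y, .z, .x, .z, .y, .y, .z, .z, .x, .y, .z, .yi, .z, .x, .z] 1 0 11 = true := by decide +kernel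
theorem sw_29 : ((([.yi, .yi, .z, .z, .x, .yi, .z, .y, .z, .x, .z, .y, .y, .z, .z, .x, .y, .z, .yi, .z, .x, .z] : List Lt).map π).prod) ^ 1 = 1 := by
  refine pow_eq_one hbp (k := 11) fun r hr => ?_
  exact chkW_spec sw_29_0 r (by omega) (by omega)
theorem sw_30_0 : chkW net 11 [.yi, .yi, .z, .y, .y, .z] 3 0 11 = true := by decide +kernel
theorem sw_30 : ((([.yi, .yi, .z, .y, .y, .z] : List Lt).map π).prod) ^ 3 = 1 := by
  refine pow_eq_one hbp (k := 11) fun r hr => ?_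
  exact chkW_spec sw_30_0 r (by omega) (by omega)
theorem sw_31_0 : chkW net 11 [.yi, .z, .z, .x, .z, .y, .z, .z, .x, .z] 2 0 11 = true := by decide +kernel
theorem sw_31 : ((([.yi, .z, .z, .x, .z, .y, .z, .z, .x, .z] : List Lt).map π).prod) ^ 2 = 1 := by
  refine pow_eq_one hbp (k := 11) fun r hr => ?_
  exact chkW_spec sw_31_0 r (by omega) (by omega)
theorem sw_32_0 : chkW net 11 [.yi, .yi, .yi, .z, .z, .x, .z, .z, .x] 2 0 11 = true := by decide +kernel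
theorem sw_32 : ((([.yi, .yi, .yi, .z, .z, .x, .z, .z, .x] : List Lt).map π).prod) ^ 2 = 1 := by
  refine pow_eq_one hbp (k := 11) fun r hr => ?_
  exact chkW_spec sw_32_0 r (by omega) (by omega)
theorem sw_33_0 : chkW net 11 [.yi, .z, .x, .y, .z, .x, .z, .z, .x, .yi, .z, .y, .z, .x, .yi, .z, .x, .z, .z, .x, .y, .z] 1 0 11 = true := by decide +kernel
theorem sw_33 : ((([.yi, .z, .x, .y, .z, .x, .z, .z, .x, .yi, .z, .y, .z, .x, .yi, .z, .x, .z, .z, .x, .y, .z] : List Lt).map π).prod) ^ 1 = 1 := by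
  refine pow_eq_one hbp (k := 11) fun r hr => ?_
  exact chkW_spec sw_33_0 r (by omega) (by omega)
theorem sw_34_0 : chkW net 11 [.z, .x, .z, .yi, .z, .z, .x, .y] 3 0 11 = true := by decide +kernel
theorem sw_34 : ((([.z, .x, .z, .yi, .z, .z, .x, .y] : List Lt).map π).prod) ^ 3 = 1 := by
  refine pow_eq_one hbp (k := 11) fun r hr => ?_
  exact chkW_spec sw_34_0 r (by omega) (by omega)
theorem sw_35_0 : chkW net 11 [.z, .x, .z, .y, .y, .z, .z, .x, .y, .y, .y] 3 0 11 = true := by decide +kernel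
theorem sw_35 : ((([.z, .x, .z, .y, .y, .z, .z, .x, .y, .y, .y] : List Lt).map π).prod) ^ 3 = 1 := by
  refine pow_eq_one hbp (k := 11) fun r hr => ?_
  exact chkW_spec sw_35_0 r (by omega) (by omega)
theorem sw_36_0 : chkW net 11 [.z, .z, .x, .y] 8 0 11 = true := by decide +kernel
theorem sw_36 : ((([.z, .z, .x, .y] : List Lt).map π).prod) ^ 8 = 1 := by
  refine pow_eq_one hbp (k := 11) fun r hr => ?_
  exact chkW_spec sw_36_0 r (by omega) (by omega)
theorem sw_37_0 : chkW net 11 [.z, .z, .x, .y, .z, .z, .x, .y, .y, .y] 4 0 11 = true := by decide +kernel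
theorem sw_37 : ((([.z, .z, .x, .y, .z, .z, .x, .y, .y, .y] : List Lt).map π).prod) ^ 4 = 1 := by
  refine pow_eq_one hbp (k := 11) fun r hr => ?_
  exact chkW_spec sw_37_0 r (by omega) (by omega)
theorem sw_38_0 : chkW net 11 [.y, .z, .x, .z, .yi, .yi, .z, .x, .z, .yi, .z, .x, .z, .yi, .z, .y, .z, .z, .x, .y, .z, .z, .x, .y, .y, .z, .z, .x, .yi, .z, .x, .z, .z, .x] 1 0 11 = true := by decide +kernel
theorem sw_38 : ((([.y, .z, .x, .z, .yi, .yi, .z, .x, .z, .yi, .z, .x, .z, .yi, .z, .y, .z, .z, .x, .y, .z, .z, .x, .y, .y, .z, .z, .x, .yi, .z, .x, .z, .z, .x] : List Lt).map π).prod) ^ 1 = 1 := by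
  refine pow_eq_one hbp (k := 11) fun r hr => ?_
  exact chkW_spec sw_38_0 r (by omega) (by omega)
theorem sw_39_0 : chkW net 11 [.z, .yi, .z, .x, .z, .yi, .z, .x, .z, .yi, .yi, .yi, .z, .y, .y, .y, .z, .z, .x, .y, .z, .z, .x, .y, .z, .z, .x, .yi, .z, .x, .z, .yi, .z, .x, .z, .yi, .yi, .yi, .z, .y, .y, .y, .z, .z, .x, .y, .z, .z, .x, .y, .z, .z, .x, .yi, .z, .x, .z, .yi, .z, .x, .z, .yi, .yi, .yi, .z, .y, .y, .y, .z, .z, .x, .y, .z, .z, .x, .y, .z, .z, .x] 1 0 11 = true := by decide +kernel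
theorem sw_39 : ((([.z, .yi, .z, .x, .z, .yi, .z, .x, .z, .yi, .yi, .yi, .z, .y, .y, .y, .z, .z, .x, .y, .z, .z, .x, .y, .z, .z, .x, .yi, .z, .x, .z, .yi, .z, .x, .z, .yi, .yi, .yi, .z, .y, .y, .y, .z, .z, .x, .y, .z, .z, .x, .y, .z, .z, .x, .yi, .z, .x, .z, .yi, .z, .x, .z, .yi, .yi, .yi, .z, .y, .y, .y, .z, .z, .x, .y, .z, .z, .x, .y, .z, .z, .x] : List Lt).map π).prod) ^ 1 = 1 := by
  refine pow_eq_one hbp (k := 11) fun r hr => ?_
  exact chkW_spec sw_39_0 r (by omega) (by omega)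
end H9.HN.NP
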