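import Cfsg.Agent.Lib.H9.HN.NP.M_x
import Cfsg.Agent.Lib.H9.HN.TCPA.Chk
import Cfsg.Agent.Lib.H35.SegKit
set_option autoImplicit false
set_option maxRecDepth 100000
set_option linter.all false
set_option Elab.async false
namespace H9.HN.NP
open H35.TC H35.Net
open H9.HN.TCPA (Lt inv mm extra subs)
/-- network -/
noncomputable def nl_x : List (ℕ × ℕ) := [(nat_lit 1024, m_x_0), (nat_lit 512, m_x_1), (nat_lit 256, m_x_2), (nat_lit 128, m_x_3), (nat_lit 64, m_x_4), (nat_lit 32, m_x_5), (nat_lit 16, m_x_6), (nat_lit 8, m_x_7), (nat_lit 4, m_x_8), (nat_lit 2, m_x_9), (nat_lit 1, m_x_10), (nat_lit 2, m_x_11), (nat_lit 4, m_x_12), (nat_lit 8, m_x_13), (nat_lit 16, m_x_14), (nat_lit 32, m_x_15), (nat_lit 64, m_x_16), (nat_lit 128, m_x_17), (nat_lit 256, m_x_18), (nat_lit 512, m_x_19), (nat_lit 1024, m_x_20)]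
/-- network -/
noncomputable def nl_xi : List (ℕ × ℕ) := [(nat_lit 1024, m_xi_0), (nat_lit 512, m_xi_1), (nat_lit 256, m_xi_2), (nat_lit 128, m_xi_3), (nat_lit 64, m_xi_4), (nat_lit 32, m_xi_5), (nat_lit 16, m_xi_6), (nat_lit 8, m_xi_7), (nat_lit 4, m_xi_8), (nat_lit 2, m_xi_9), (nat_lit 1, m_xi_10), (nat_lit 2, m_xi_11), (nat_lit 4, m_xi_12), (nat_lit 8, m_xi_13), (nat_lit 16, m_xi_14), (nat_lit 32, m_xi_15), (nat_lit 64, m_xi_16), (nat_lit 128, m_xi_17), (nat_lit 256, m_xi_18), (nat_lit 512, m_xi_19), (nat_lit 1024, m_xi_20)]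
/-- network -/
noncomputable def nl_y : List (ℕ × ℕ) := [(nat_lit 1024, m_y_0), (nat_lit 512, m_y_1), (nat_lit 256, m_y_2), (nat_lit 128, m_y_3), (nat_lit 64, m_y_4), (nat_lit 32, m_y_5), (nat_lit 16, m_y_6), (nat_lit 8, m_y_7), (nat_lit 4, m_y_8), (nat_lit 2, m_y_9), (nat_lit 1, m_y_10), (nat_lit 2, m_y_11), (nat_lit 4, m_y_12), (nat_lit 8, m_y_13), (nat_lit 16, m_y_14), (nat_lit 32, m_y_15), (nat_lit 64, m_y_16), (nat_lit 128, m_y_17), (nat_lit 256, m_y_18), (nat_lit 512, m_y_19), (nat_lit 1024, m_y_20)]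
/-- network -/
noncomputable def nl_yi : List (ℕ × ℕ) := [(nat_lit 1024, m_yi_0), (nat_lit 512, m_yi_1), (nat_lit 256, m_yi_2), (nat_lit 128, m_yi_3), (nat_lit 64, m_yi_4), (nat_lit 32, m_yi_5), (nat_lit 16, m_yi_6), (nat_lit 8, m_yi_7), (nat_lit 4, m_yi_8), (nat_lit 2, m_yi_9), (nat_lit 1, m_yi_10), (nat_lit 2, m_yi_11), (nat_lit 4, m_yi_12), (nat_lit 8, m_yi_13), (nat_lit 16, m_yi_14), (nat_lit 32, m_yi_15), (nat_lit 64, m_yi_16), (nat_lit 128, m_yi_17), (nat_lit 256, m_yi_18), (nat_lit 512, m_yi_19), (nat_lit 1024, m_yi_20)]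
/-- network -/
noncomputable def nl_z : List (ℕ × ℕ) := [(nat_lit 1024, m_z_0), (nat_lit 512, m_z_1), (nat_lit 256, m_z_2), (nat_lit 128, m_z_3), (nat_lit 64, m_z_4), (nat_lit 32, m_z_5), (nat_lit 16, m_z_6), (nat_lit 8, m_z_7), (nat_lit 4, m_z_8), (nat_lit 2, m_z_9), (nat_lit 1, m_z_10), (nat_lit 2, m_z_11), (nat_lit 4, m_z_12), (nat_lit 8, m_z_13), (nat_lit 16, m_z_14), (nat_lit 32, m_z_15), (nat_lit 64, m_z_16), (nat_lit 128, m_z_17), (nat_lit 256, m_z_18), (nat_lit 512, m_z_19), (nat_lit 1024, m_z_20)]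
/-- network of a letter -/
noncomputable def net : Lt → ℕ → ℕ
  | .x => runNet nl_x
  | .xi => runNet nl_xi
  | .y => runNet nl_y
  | .yi => runNet nl_yi
  | .z => runNet nl_z
theorem ck_x : chkNet 2048 nl_x = true := by decide +kernel
theorem ck_xi : chkNet 2048 nl_xi = true := by decide +kernel
theorem ck_y : chkNet 2048 nl_y = true := by decide +kernel
theorem ck_yi : chkNet 2048 nl_yi = true := by decide +kernel
theorem ck_z : chkNet 2048 nl_z = true := by decide +kernel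
theorem bp : ∀ x, ∃ π : Equiv.Perm ℕ, BP (2 ^ 11) (net x) π := by
  have e : (2 : ℕ) ^ 11 = 2048 := by norm_num
  rw [e]
  intro x
  cases x
  · exact runNet_BP ck_x
  · exact runNet_BP ck_xi
  · exact runNet_BP ck_y
  · exact runNet_BP ck_yi
  · exact runNet_BP ck_z
/-- the permutation of a letter -/
noncomputable def π (x : Lt) : Equiv.Perm ℕ := (bp x).choose
theorem hbp : ∀ x, BP (2 ^ 11) (net x) (π x) := fun x => (bp x).choose_spec
end H9.HN.NP
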